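import Groth.Agent.Lib.PushDepth12.Algebra
import Groth.Agent.Lib.QCoh.Qcqs
import Groth.Agent.Lib.FlatFP.Sheaf
import Groth.Agent.Lib.BCCoh.Flat
import Groth.Agent.Lib.AssPts.Points
import Groth.Agent.Lib.NegTwist.Depth
import Groth.Agent.Lib.FundIso27.Alg
import Groth.Prelude.Def_FlatMod2
import Mathlib.RingTheory.Flat.Stability
import Mathlib.AlgebraicGeometry.Morphisms.QuasiSeparated

/-!
# Depth of stalks of direct images
-/

set_option autoImplicit false
set_option linter.all false
set_option maxHeartbeats 1000000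
set_option backward.isDefEq.respectTransparency false
set_option backward.isDefEq.respectTransparency.types false
universe u

open CategoryTheory AlgebraicGeometry Opposite TopologicalSpace TensorProduct

noncomputable section

namespace GrothLib.PushDepth12

open GrothLib.InvExt (mres)
open GrothLib.WeakAss (primeAt)

variable {X S : Scheme.{u}} (f : X ⟶ S)

/-- A finite affine cover of a quasi-compact quasi-separated preimage with pairwise refinements. -/
theorem exists_cover [QuasiCompact f] [QuasiSeparated f] {V : S.Opens} (hV : IsAffineOpen V) :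
    ∃ (n : ℕ) (W : Fin n → X.affineOpens) (κ : Type u) (_ : Fintype κ) (O : κ → X.affineOpens) (a b : κ → Fin n),
      (∀ i, (W i).1 ≤ f ⁻¹ᵁ V) ∧ f ⁻¹ᵁ V ≤ ⨆ i, (W i).1 ∧ (∀ k, (O k).1 ≤ (W (a k)).1) ∧ (∀ k, (O k).1 ≤ (W (b k)).1) ∧
      ∀ i j, (W i).1 ⊓ (W j).1 ≤ ⨆ (k : {k : κ // a k = i ∧ b k = j}), (O k.1).1 := by
  classical
  obtain ⟨s, hs, hse⟩ := (isCompact_and_isOpen_iff_finite_and_eq_biUnion_affineOpens (U := ((f ⁻¹ᵁ V : X.Opens) : Set X))).1
    ⟨f.isCompact_preimage hV.isCompact, (f ⁻¹ᵁ V).2⟩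
  haveI := hs.fintype
  let e := Fintype.equivFin s
  let W : Fin (Fintype.card s) → X.affineOpens := fun i => (e.symm i).1
  have hW : ∀ i, (W i).1 ≤ f ⁻¹ᵁ V := fun i x hx => hse.ge (Set.mem_biUnion (e.symm i).2 hx)
  have hqs : IsQuasiSeparated ((f ⁻¹ᵁ V : X.Opens) : Set X) := f.isQuasiSeparated_preimage hV.isQuasiSeparated
  have hij : ∀ i j, ∃ t : Set X.affineOpens, t.Finite ∧
      (((W i).1 ⊓ (W j).1 : X.Opens) : Set X) = ⋃ O ∈ t, ((O : X.Opens) : Set X) := fun i j =>
    (isCompact_and_isOpen_iff_finite_and_eq_biUnion_affineOpens).1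
      ⟨hqs _ _ (hW i) (W i).1.2 (W i).2.isCompact (hW j) (W j).1.2 (W j).2.isCompact, ((W i).1 ⊓ (W j).1).2⟩
  choose t ht hte using hij
  haveI : ∀ i j, Fintype (t i j) := fun i j => (ht i j).fintype
  refine ⟨Fintype.card s, W, Σ i j, t i j, inferInstance, fun k => k.2.2.1, fun k => k.1, fun k => k.2.1, hW, ?_, ?_, ?_, ?_⟩
  · intro x hx
    obtain ⟨O, hO, hxO⟩ := Set.mem_iUnion₂.1 (hse.le hx)
    refine Opens.mem_iSup.2 ⟨e ⟨O, hO⟩, ?_⟩
    simpa [W] using hxO
  · exact fun k x hx => ((hte k.1 k.2.1).ge (Set.mem_biUnion k.2.2.2 hx)).1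
  · exact fun k x hx => ((hte k.1 k.2.1).ge (Set.mem_biUnion k.2.2.2 hx)).2
  · intro i j x hx
    obtain ⟨O, hO, hxO⟩ := Set.mem_iUnion₂.1 ((hte i j).le hx)
    exact Opens.mem_iSup.2 ⟨⟨⟨i, j, O, hO⟩, rfl, rfl⟩, hxO⟩

variable (F : X.Modules)

/-- A point outside the image is killed on an affine piece. -/
theorem exists_notMem_mem_smul_end {V : S.Opens} (hV : IsAffineOpen V) {s : S} (hsV : s ∈ V)
    (hs : s ∉ Set.range (fun x => f x)) (U : X.affineOpens) (e : U.1 ≤ f ⁻¹ᵁ V) :
    letI : Module Γ(S, V) Γ(F, U.1) := Module.compHom _ (f.appLE V U.1 e).hom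
    ∃ t ∉ primeAt s hsV, t • (1 : Module.End Γ(S, V) Γ(F, U.1)) ∈
      primeAt s hsV • (⊤ : Submodule Γ(S, V) (Module.End Γ(S, V) Γ(F, U.1))) := by
  letI : Algebra Γ(S, V) Γ(X, U.1) := (f.appLE V U.1 e).hom.toAlgebra
  letI : Module Γ(S, V) Γ(F, U.1) := Module.compHom _ (f.appLE V U.1 e).hom
  haveI : IsScalarTower Γ(S, V) Γ(X, U.1) Γ(F, U.1) := IsScalarTower.of_algebraMap_smul fun _ _ => rfl
  obtain ⟨t, ht, htm⟩ : ∃ t ∉ primeAt s hsV, algebraMap Γ(S, V) Γ(X, U.1) t ∈
      Ideal.map (algebraMap Γ(S, V) Γ(X, U.1)) (primeAt s hsV) := by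
    by_contra hne
    push Not at hne
    obtain ⟨Q, hQ, hle, hdisj⟩ := Ideal.exists_le_prime_disjoint
      (Ideal.map (algebraMap Γ(S, V) Γ(X, U.1)) (primeAt s hsV))
      ((primeAt s hsV).primeCompl.map (algebraMap Γ(S, V) Γ(X, U.1)))
      (Set.disjoint_left.2 fun x hx hx' => by
        obtain ⟨t, ht, rfl⟩ := hx'
        exact hne t ht hx)
    obtain ⟨x, hx, rfl⟩ := AssPts.exists_point U.2 Q hQ
    refine hs ⟨x, ?_⟩
    have hiff : ∀ a : Γ(S, V), f x ∈ S.basicOpen a ↔ s ∈ S.basicOpen a := fun a => by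
      rw [← WeakAss.notMem_primeAt_iff (hx := hsV)]
      have hpre : f x ∈ S.basicOpen a ↔ algebraMap Γ(S, V) Γ(X, U.1) a ∉ primeAt x hx := by
        rw [WeakAss.notMem_primeAt_iff, RingHom.algebraMap_toAlgebra, Scheme.basicOpen_appLE]
        exact ⟨fun h => ⟨hx, h⟩, fun h => h.2⟩
      rw [hpre]
      exact ⟨fun h ha => h (hle (Ideal.mem_map_of_mem _ ha)),
        fun h ha => Set.disjoint_left.1 hdisj ha ⟨a, h, rfl⟩⟩
    refine Inseparable.eq ((inseparable_iff_forall_isOpen).2 fun T hT => ⟨fun h => ?_, fun h => ?_⟩)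
    · obtain ⟨a, ha, hxa⟩ := hV.exists_basicOpen_le (V := ⟨T, hT⟩) ⟨f x, h⟩ (e hx)
      exact ha ((hiff a).1 hxa)
    · obtain ⟨a, ha, hsa⟩ := hV.exists_basicOpen_le (V := ⟨T, hT⟩) ⟨s, h⟩ hsV
      exact ha ((hiff a).2 hsa)
  refine ⟨t, ht, ?_⟩
  let L : Γ(X, U.1) →ₗ[Γ(S, V)] Module.End Γ(S, V) Γ(F, U.1) :=
    (Algebra.lsmul Γ(S, V) Γ(S, V) Γ(F, U.1) : Γ(X, U.1) →ₐ[Γ(S, V)] _).toLinearMap
  have h1 : algebraMap Γ(S, V) Γ(X, U.1) t ∈ primeAt s hsV • (⊤ : Submodule Γ(S, V) Γ(X, U.1)) := by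
    rw [Ideal.smul_top_eq_map]
    exact htm
  have h2 := Submodule.mem_map_of_mem (f := L) h1
  rw [Submodule.map_smul''] at h2
  have h3 : L (algebraMap Γ(S, V) Γ(X, U.1) t) = t • (1 : Module.End Γ(S, V) Γ(F, U.1)) := by
    refine LinearMap.ext fun z => ?_
    exact algebraMap_smul Γ(X, U.1) t z
  rw [← h3]
  exact Submodule.smul_mono le_rfl le_top h2

/-- Combining the pieces and localizing. -/
theorem one_mem_smul_end {A R : Type u} [CommRing A] [CommRing R] [Algebra A R] [IsLocalRing R] (p : Ideal A) [p.IsPrime]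
    [IsLocalization p.primeCompl R] {ι : Type*} [Fintype ι] (N : ι → Type u) [∀ i, AddCommGroup (N i)] [∀ i, Module A (N i)]
    (hN : ∀ i, ∃ t ∉ p, t • (1 : Module.End A (N i)) ∈ p • (⊤ : Submodule A (Module.End A (N i)))) :
    (1 : Module.End R (R ⊗[A] ((i : ι) → N i))) ∈
      IsLocalRing.maximalIdeal R • (⊤ : Submodule R (Module.End R (R ⊗[A] ((i : ι) → N i)))) := by
  classical
  choose t ht htm using hN
  let T := ∏ i, t i
  have hT : T ∉ p := fun h => by
    obtain ⟨i, -, hi⟩ := (Ideal.IsPrime.prod_mem_iff (hp := inferInstance)).1 h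
    exact ht i hi
  have hP : T • (1 : Module.End A ((i : ι) → N i)) ∈ p • (⊤ : Submodule A (Module.End A ((i : ι) → N i))) := by
    have hsum : T • (1 : Module.End A ((i : ι) → N i)) =
        ∑ i, (∏ j ∈ Finset.univ.erase i, t j) • t i • ((LinearMap.single A N i).comp (LinearMap.proj i)) := by
      refine LinearMap.ext fun z => funext fun j => ?_
      simp only [LinearMap.smul_apply, Module.End.one_apply, LinearMap.sum_apply, Finset.sum_apply, Pi.smul_apply,
        LinearMap.comp_apply, LinearMap.proj_apply, LinearMap.coe_single]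
      rw [Finset.sum_eq_single j]
      · rw [Pi.single_eq_same, smul_smul, Finset.prod_erase_mul _ _ (Finset.mem_univ j)]
      · intro i _ hi
        rw [Pi.single_eq_of_ne (Ne.symm hi), smul_zero, smul_zero]
      · simp
    rw [hsum]
    refine Submodule.sum_mem _ fun i _ => Submodule.smul_mem _ _ ?_
    let L : Module.End A (N i) →ₗ[A] Module.End A ((i : ι) → N i) :=
      { toFun := fun e => (LinearMap.single A N i).comp (e.comp (LinearMap.proj i))
        map_add' := fun e e' => by rw [LinearMap.add_comp, LinearMap.comp_add]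
        map_smul' := fun a e => by rw [LinearMap.smul_comp, LinearMap.comp_smul]; rfl }
    have h := Submodule.mem_map_of_mem (f := L) (htm i)
    rw [Submodule.map_smul'', map_smul] at h
    exact Submodule.smul_mono le_rfl le_top h
  have hle : ∀ e ∈ p • (⊤ : Submodule A (Module.End A ((i : ι) → N i))),
      LinearMap.baseChange R e ∈ IsLocalRing.maximalIdeal R • (⊤ : Submodule R (Module.End R (R ⊗[A] ((i : ι) → N i)))) := by
    intro e he
    refine Submodule.smul_induction_on he (fun a ha e _ => ?_) fun e e' h h' => ?_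
    · rw [LinearMap.baseChange_smul, ← algebraMap_smul R a]
      exact Submodule.smul_mem_smul ((IsLocalization.AtPrime.to_map_mem_maximal_iff R p a).2 ha) trivial
    · rw [LinearMap.baseChange_add]
      exact add_mem h h'
  have h := hle _ hP
  rw [LinearMap.baseChange_smul, LinearMap.baseChange_one, ← algebraMap_smul R T] at h
  obtain ⟨v, hv⟩ := IsLocalization.map_units R (⟨T, hT⟩ : p.primeCompl)
  have := Submodule.smul_mem _ (↑v⁻¹ : R) h
  rwa [smul_smul, ← hv, Units.inv_mul, one_smul] at this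

theorem flat_pi {A : Type u} [CommRing A] {ι : Type*} [Fintype ι] (N : ι → Type u) [∀ i, AddCommGroup (N i)]
    [∀ i, Module A (N i)] [∀ i, Module.Flat A (N i)] : Module.Flat A ((i : ι) → N i) := by
  classical
  exact Module.Flat.of_linearEquiv (DirectSum.linearEquivFunOnFintype A ι N).symm

theorem main [QuasiCompact f] [QuasiSeparated f] [F.IsQuasicoherent] (s : S)
    [Module.Finite (S.presheaf.stalk s) (((Scheme.Modules.pushforward f).obj F).presheaf.stalk s)] :
    ((s ∉ Set.range (fun x => f x)) → IsNoetherianRing (S.presheaf.stalk s) →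
        (2 : ℕ∞) ≤ LocCoh.depth (S.presheaf.stalk s) (((Scheme.Modules.pushforward f).obj F).presheaf.stalk s)) ∧
      (FlatMod.IsFlatOver f F →
        min (2 : ℕ∞) (LocCoh.depth (S.presheaf.stalk s) (S.presheaf.stalk s)) ≤
          LocCoh.depth (S.presheaf.stalk s) (((Scheme.Modules.pushforward f).obj F).presheaf.stalk s)) := by
  classical
  obtain ⟨_, ⟨V, hV, rfl⟩, hsV, -⟩ :=
    S.isBasis_affineOpens.exists_subset_of_mem_open (Set.mem_univ s) isOpen_univ
  obtain ⟨n, W, κ, _, O, a, b, hW, hcov, hOa, hOb, hOcov⟩ := exists_cover f hV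
  let P := (i : Fin n) → Γ(F, (W i).1)
  let Q := (k : κ) → Γ(F, (O k).1)
  letI : ∀ i, Module Γ(S, V) Γ(F, (W i).1) := fun i => Module.compHom _ (f.appLE V (W i).1 (hW i)).hom
  letI : ∀ k, Module Γ(S, V) Γ(F, (O k).1) := fun k =>
    Module.compHom _ (f.appLE V (O k).1 ((hOa k).trans (hW (a k)))).hom
  haveI := QCoh.isQuasicoherent_pushforward f F
  let PF := (Scheme.Modules.pushforward f).obj F
  have hlin : ∀ {U U' : X.Opens} (h : U' ≤ U) (e : U ≤ f ⁻¹ᵁ V) (r : Γ(S, V)) (z : Γ(F, U)),
      mres F h ((f.appLE V U e) r • z) = (f.appLE V U' (h.trans e)) r • mres F h z := fun {U U'} h e r z => by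
    rw [InvExt.mres_smul]
    exact congrArg (· • mres F h z) (ConcreteCategory.congr_hom (f.appLE_map e (homOfLE h).op) r)
  let g : Γ(PF, V) →ₗ[Γ(S, V)] P :=
    { toFun := fun z i => mres F (hW i) z
      map_add' := fun z z' => funext fun i => map_add _ z z'
      map_smul' := fun r z => funext fun i => by
        show mres F (hW i) (f.app V r • (show Γ(F, f ⁻¹ᵁ V) from z)) = (f.appLE V (W i).1 (hW i)) r • mres F (hW i) z
        rw [InvExt.mres_smul]
        rfl }
  let h : P →ₗ[Γ(S, V)] Q :=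
    { toFun := fun p k => mres F (hOa k) (p (a k)) - mres F (hOb k) (p (b k))
      map_add' := fun p p' => funext fun k => by
        show mres F (hOa k) (p (a k) + p' (a k)) - mres F (hOb k) (p (b k) + p' (b k)) = _
        show mres F _ (p (a k) + p' (a k)) - mres F _ (p (b k) + p' (b k)) = (_ - _) + (_ - _)
        unfold InvExt.mres
        rw [map_add, map_add]
        abel
      map_smul' := fun r p => funext fun k => by
        show mres F (hOa k) ((f.appLE V (W (a k)).1 (hW _)) r • p (a k)) - mres F (hOb k) ((f.appLE V (W (b k)).1 (hW _)) r • p (b k)) =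
          (f.appLE V (O k).1 ((hOa k).trans (hW _))) r • (mres F (hOa k) (p (a k)) - mres F (hOb k) (p (b k)))
        rw [hlin, hlin, smul_sub] }
  have hg : Function.Injective g := fun z z' hzz =>
    Ample.meq_of_cover F (fun i => (W i).1) hW hcov fun i => congrFun hzz i
  have hex : Function.Exact g h := fun p => by
    constructor
    · intro hp
      have hc : ∀ i j, mres F (inf_le_left : (W i).1 ⊓ (W j).1 ≤ (W i).1) (p i) = mres F inf_le_right (p j) := by
        intro i j
        refine Ample.meq_of_cover F (fun k : {k : κ // a k = i ∧ b k = j} => (O k.1).1) ?_ (hOcov i j) fun k => ?_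
        · rintro ⟨k, rfl, rfl⟩
          exact le_inf (hOa k) (hOb k)
        · obtain ⟨k, rfl, rfl⟩ := k
          rw [InvExt.mres_mres, InvExt.mres_mres]
          exact sub_eq_zero.1 (congrFun hp k)
      obtain ⟨z, hz, -⟩ := TopCat.Sheaf.existsUnique_gluing' ⟨F.presheaf, F.isSheaf⟩ (fun i => (W i).1) (f ⁻¹ᵁ V)
        (fun i => homOfLE (hW i)) hcov p (fun i j => hc i j)
      exact ⟨z, funext fun i => hz i⟩
    · rintro ⟨z, rfl⟩
      funext k
      show mres F (hOa k) (mres F (hW _) z) - mres F (hOb k) (mres F (hW _) z) = 0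
      rw [InvExt.mres_mres, InvExt.mres_mres, sub_self]
  letI := S.presheaf.algebra_section_stalk ⟨s, hsV⟩
  haveI := FlatFP.isLocalization_stalk_primeAt hV hsV
  let R := S.presheaf.stalk s
  haveI : Module.Flat Γ(S, V) R := IsLocalization.flat R (primeAt s hsV).primeCompl
  letI : Module Γ(S, V) (PF.presheaf.stalk s) := Module.compHom _ (S.presheaf.germ V s hsV).hom
  haveI : IsScalarTower Γ(S, V) R (PF.presheaf.stalk s) := IsScalarTower.of_algebraMap_smul fun _ _ => rfl
  obtain ⟨γ, hγ, -⟩ := FlatFP.isLocalizedModule_germ PF hV hsV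
  haveI := hγ
  let eM := ((isLocalizedModule_iff_isBaseChange (primeAt s hsV).primeCompl R γ).1 hγ).equiv
  have hG : Function.Injective (LinearMap.baseChange R g) := Module.Flat.lTensor_preserves_injective_linearMap g hg
  have hE : Function.Exact (LinearMap.baseChange R g) (LinearMap.baseChange R h) := Module.Flat.lTensor_exact R hex
  haveI : Module.Finite R (R ⊗[Γ(S, V)] Γ(PF, V)) := Module.Finite.equiv eM.symm
  constructor
  · intro hs hN
    rw [← NegTwist.depth_congr eM]
    exact two_le_depth_of_unit _ _ hG hE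
      (one_mem_smul_end (primeAt s hsV) _ fun i => exists_notMem_mem_smul_end f F hV hsV hs (W i) (hW i))
      (one_mem_smul_end (primeAt s hsV) _ fun k => exists_notMem_mem_smul_end f F hV hsV hs (O k) _)
  · intro hF
    rw [← NegTwist.depth_congr eM]
    haveI : ∀ i, Module.Flat Γ(S, V) Γ(F, (W i).1) := fun i => BCCoh.flat_sections f F hF (W i).2 hV (hW i)
    haveI : ∀ k, Module.Flat Γ(S, V) Γ(F, (O k).1) := fun k => BCCoh.flat_sections f F hF (O k).2 hV _
    haveI : Module.Flat Γ(S, V) P := flat_pi _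
    haveI : Module.Flat Γ(S, V) Q := flat_pi _
    have hne : IsLocalRing.maximalIdeal R • (⊤ : Submodule R R) ≠ ⊤ := by
      rw [smul_eq_mul, Ideal.mul_top]
      exact (IsLocalRing.maximalIdeal.isMaximal R).ne_top
    by_cases h2 : (2 : ℕ∞) ≤ LocCoh.depth R R
    · obtain ⟨r, hr, r', hr', hreg, hreg'⟩ := NegTwist.exists_regular_pair h2 hne
      have hw : RingTheory.Sequence.IsWeaklyRegular R [r, r'] := by
        rw [RingTheory.Sequence.isWeaklyRegular_cons_iff, RingTheory.Sequence.isWeaklyRegular_cons_iff]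
        refine ⟨isSMulRegular_iff_right_eq_zero_of_smul.2 fun x => hreg x, ?_, RingTheory.Sequence.IsWeaklyRegular.nil R _⟩
        rw [isSMulRegular_iff_right_eq_zero_of_smul]
        intro x hx
        obtain ⟨z, rfl⟩ := Submodule.Quotient.mk_surjective _ x
        rw [← Submodule.Quotient.mk_smul, Submodule.Quotient.mk_eq_zero] at hx
        obtain ⟨w, -, hw⟩ := (Submodule.mem_smul_pointwise_iff_exists _ _ _).1 hx
        obtain ⟨c, rfl⟩ := hreg' z w hw.symm
        exact (Submodule.Quotient.mk_eq_zero _).2 (Submodule.smul_mem_pointwise_smul c r ⊤ trivial)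
      refine (min_le_left _ _).trans ?_
      have hQ := FundIso27.isWeaklyRegular_of_flat (R ⊗[Γ(S, V)] Q) [r, r'] hw
      rw [RingTheory.Sequence.isWeaklyRegular_cons_iff] at hQ
      exact two_le_depth_of_pair _ _ hG hE hr hr' (FundIso27.isWeaklyRegular_of_flat _ _ hw) hQ.1
    · by_cases h1 : (1 : ℕ∞) ≤ LocCoh.depth R R
      · obtain ⟨r, hr, hreg⟩ := NegTwist.exists_regular h1 hne
        have hw : RingTheory.Sequence.IsWeaklyRegular R [r] := by
          rw [RingTheory.Sequence.isWeaklyRegular_cons_iff]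
          exact ⟨isSMulRegular_iff_right_eq_zero_of_smul.2 fun x => hreg x, RingTheory.Sequence.IsWeaklyRegular.nil R _⟩
        have hP := FundIso27.isWeaklyRegular_of_flat (R ⊗[Γ(S, V)] P) [r] hw
        rw [RingTheory.Sequence.isWeaklyRegular_cons_iff] at hP
        refine (min_le_right _ _).trans (le_trans ?_ (one_le_depth_of_regular _ hG hr hP.1))
        exact Order.le_of_lt_succ (lt_of_not_ge h2)
      · refine (min_le_right _ _).trans ?_
        rw [ENat.lt_one_iff_eq_zero.1 (lt_of_not_ge h1)]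
        exact zero_le

end GrothLib.PushDepth12
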