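import Groth.Agent.Lib.CMBasics.Basic
import Groth.Prelude.Def_CAlg
import Mathlib.RingTheory.Regular.RegularSequence

/-!
# Depth of an equalizer of modules on which the maximal ideal acts as the unit ideal
-/

set_option autoImplicit false
set_option linter.all false
set_option backward.isDefEq.respectTransparency false
set_option backward.isDefEq.respectTransparency.types false
universe u

open RingTheory.Sequence Pointwise

namespace GrothLib.PushDepth12

variable {R : Type u} [CommRing R]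

/-- Every compatible family on `J` comes from an element when `id ∈ J • End`. -/
theorem exists_elem {P : Type*} [AddCommGroup P] [Module R P] {J : Ideal R}
    (hP : (1 : Module.End R P) ∈ J • (⊤ : Submodule R (Module.End R P)))
    (w : J → P) (hw : ∀ b b' : J, (b : R) • w b' = (b' : R) • w b) : ∃ p, ∀ b : J, (b : R) • p = w b := by
  suffices h : ∀ e ∈ J • (⊤ : Submodule R (Module.End R P)), ∃ p, ∀ b : J, (b : R) • p = e (w b) by
    obtain ⟨p, hp⟩ := h 1 hP
    exact ⟨p, fun b => (hp b).trans rfl⟩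
  intro e he
  refine Submodule.smul_induction_on he (fun b₀ hb₀ e₀ _ => ?_) ?_
  · refine ⟨e₀ (w ⟨b₀, hb₀⟩), fun b => ?_⟩
    rw [← map_smul, hw b ⟨b₀, hb₀⟩, map_smul]
    rfl
  · rintro e₁ e₂ ⟨p, hp⟩ ⟨p', hp'⟩
    exact ⟨p + p', fun b => by rw [smul_add, hp, hp', LinearMap.add_apply]⟩

theorem eq_zero_of_unit {P : Type*} [AddCommGroup P] [Module R P] {J : Ideal R}
    (hP : (1 : Module.End R P) ∈ J • (⊤ : Submodule R (Module.End R P))) {x : P}
    (hx : ∀ b ∈ J, b • x = 0) : x = 0 := by
  suffices h : ∀ e ∈ J • (⊤ : Submodule R (Module.End R P)), e x = 0 from h 1 hP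
  intro e he
  refine Submodule.smul_induction_on he (fun b hb e₀ _ => ?_) (fun e₁ e₂ h h' => by rw [LinearMap.add_apply, h, h', add_zero])
  rw [LinearMap.smul_apply, ← map_smul, hx b hb, map_zero]

variable [IsLocalRing R] {M P Q : Type u} [AddCommGroup M] [Module R M] [AddCommGroup P] [Module R P]
  [AddCommGroup Q] [Module R Q] (g : M →ₗ[R] P) (h : P →ₗ[R] Q)

theorem le_depth_of_list (rs : List R) (hrs : IsWeaklyRegular M rs) (hm : ∀ r ∈ rs, r ∈ IsLocalRing.maximalIdeal R) :
    (rs.length : ℕ∞) ≤ LocCoh.depth R M := by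
  rw [LocCoh.depth, LocCoh.idealDepth]
  split_ifs
  · exact le_top
  · exact le_iSup₂ (f := fun (rs : List R) (_ : _ ∧ _) => (rs.length : ℕ∞)) rs ⟨hrs, hm⟩

/-- Equalizers of unit modules have depth at least two. -/
theorem two_le_depth_of_unit [IsNoetherianRing R] [Module.Finite R M] (hg : Function.Injective g) (hex : Function.Exact g h)
    (hP : (1 : Module.End R P) ∈ IsLocalRing.maximalIdeal R • (⊤ : Submodule R (Module.End R P)))
    (hQ : (1 : Module.End R Q) ∈ IsLocalRing.maximalIdeal R • (⊤ : Submodule R (Module.End R Q))) :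
    (2 : ℕ∞) ≤ LocCoh.depth R M := by
  have hM : ∀ x : M, (∀ b ∈ IsLocalRing.maximalIdeal R, b • x = 0) → x = 0 := fun x hx =>
    hg ((eq_zero_of_unit hP fun b hb => by rw [← map_smul, hx b hb, map_zero]).trans (map_zero g).symm)
  have key : ∀ (N : Type u) [AddCommGroup N] [Module R N] [Module.Finite R N],
      (∀ x : N, (∀ b ∈ IsLocalRing.maximalIdeal R, b • x = 0) → x = 0) →
      ∃ a ∈ IsLocalRing.maximalIdeal R, IsSMulRegular N a := by
    intro N _ _ _ hN
    by_contra hne
    push Not at hne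
    obtain ⟨f, f', hff⟩ := (CMBasics.forall_not_isSMulRegular_iff (M := N)).1 hne
    refine hff (LinearMap.ext fun z => ?_)
    obtain ⟨r, rfl⟩ := Ideal.Quotient.mk_surjective (I := IsLocalRing.maximalIdeal R) z
    refine sub_eq_zero.1 (hN _ fun b hb => ?_)
    rw [← LinearMap.sub_apply, ← map_smul,
      show b • (Ideal.Quotient.mk (IsLocalRing.maximalIdeal R) r : IsLocalRing.ResidueField R) = 0 from
        Ideal.Quotient.eq_zero_iff_mem.2 (Ideal.mul_mem_right r _ hb), map_zero]
  obtain ⟨a, ha, hareg⟩ := key M hM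
  obtain ⟨b, hb, hbreg⟩ := key (QuotSMulTop a M) fun x hx => by
    obtain ⟨z, rfl⟩ := Submodule.Quotient.mk_surjective _ x
    have hz : ∀ b : IsLocalRing.maximalIdeal R, ∃ w : M, (b : R) • z = a • w := fun b => by
      have hb := hx b b.2
      rw [← Submodule.Quotient.mk_smul, Submodule.Quotient.mk_eq_zero] at hb
      obtain ⟨w, -, hw⟩ := (Submodule.mem_smul_pointwise_iff_exists _ _ _).1 hb
      exact ⟨w, hw.symm⟩
    choose w hw using hz
    have hcomp : ∀ b b' : IsLocalRing.maximalIdeal R, (b : R) • w b' = (b' : R) • w b := fun b b' =>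
      hareg <| show a • (b : R) • w b' = a • (b' : R) • w b by
        rw [smul_comm a, ← hw b', smul_comm a, ← hw b, smul_comm]
    obtain ⟨p, hp⟩ := exists_elem hP (fun b => g (w b)) fun b b' => by rw [← map_smul, ← map_smul, hcomp]
    obtain ⟨u, rfl⟩ := (hex p).1 (eq_zero_of_unit hQ fun b hb => by rw [← map_smul, hp ⟨b, hb⟩, hex.apply_apply_eq_zero])
    have hu : z = a • u := sub_eq_zero.1 (hM _ fun b hb => by
      have h' : b • u = w ⟨b, hb⟩ := hg (by rw [map_smul]; exact hp ⟨b, hb⟩)
      rw [smul_sub, smul_comm b a, h', hw ⟨b, hb⟩, sub_self])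
    rw [Submodule.Quotient.mk_eq_zero, hu]
    exact Submodule.smul_mem_pointwise_smul u a ⊤ trivial
  refine (le_depth_of_list [a, b] ?_ (List.forall_mem_cons.2 ⟨ha, List.forall_mem_cons.2 ⟨hb, List.forall_mem_nil _⟩⟩)).trans' (by simp)
  rw [isWeaklyRegular_cons_iff, isWeaklyRegular_cons_iff]
  exact ⟨hareg, hbreg, IsWeaklyRegular.nil R _⟩

/-- Equalizers of modules on which a pair is regular. -/
theorem two_le_depth_of_pair (hg : Function.Injective g) (hex : Function.Exact g h) {a b : R}
    (ha : a ∈ IsLocalRing.maximalIdeal R) (hb : b ∈ IsLocalRing.maximalIdeal R)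
    (hP : IsWeaklyRegular P [a, b]) (hQ : IsSMulRegular Q a) :
    (2 : ℕ∞) ≤ LocCoh.depth R M := by
  rw [isWeaklyRegular_cons_iff, isWeaklyRegular_cons_iff] at hP
  have haM : IsSMulRegular M a := fun x y hxy => hg (hP.1 (by simpa only [map_smul] using congrArg g hxy))
  refine (le_depth_of_list [a, b] ?_ (List.forall_mem_cons.2 ⟨ha, List.forall_mem_cons.2 ⟨hb, List.forall_mem_nil _⟩⟩)).trans' (by simp)
  rw [isWeaklyRegular_cons_iff, isWeaklyRegular_cons_iff]
  refine ⟨haM, ?_, IsWeaklyRegular.nil R _⟩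
  rw [isSMulRegular_iff_right_eq_zero_of_smul]
  intro x hx
  obtain ⟨z, rfl⟩ := Submodule.Quotient.mk_surjective _ x
  rw [← Submodule.Quotient.mk_smul, Submodule.Quotient.mk_eq_zero] at hx
  obtain ⟨w, -, hw⟩ := (Submodule.mem_smul_pointwise_iff_exists _ _ _).1 hx
  have h1 : (Submodule.Quotient.mk (g z) : QuotSMulTop a P) = 0 := by
    refine (isSMulRegular_iff_right_eq_zero_of_smul.1 hP.2.1) _ ?_
    rw [← Submodule.Quotient.mk_smul, Submodule.Quotient.mk_eq_zero, ← map_smul, ← hw, map_smul]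
    exact Submodule.smul_mem_pointwise_smul _ a ⊤ trivial
  obtain ⟨p, -, hp⟩ := (Submodule.mem_smul_pointwise_iff_exists _ _ _).1 ((Submodule.Quotient.mk_eq_zero _).1 h1)
  obtain ⟨u, rfl⟩ := (hex p).1 ((isSMulRegular_iff_right_eq_zero_of_smul.1 hQ) _ (by rw [← map_smul, hp, hex.apply_apply_eq_zero]))
  rw [Submodule.Quotient.mk_eq_zero, show z = a • u from hg (by rw [map_smul, hp])]
  exact Submodule.smul_mem_pointwise_smul u a ⊤ trivial

theorem one_le_depth_of_regular (hg : Function.Injective g) {a : R} (ha : a ∈ IsLocalRing.maximalIdeal R)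
    (hP : IsSMulRegular P a) : (1 : ℕ∞) ≤ LocCoh.depth R M := by
  refine (le_depth_of_list [a] ?_ (List.forall_mem_cons.2 ⟨ha, List.forall_mem_nil _⟩)).trans' (by simp)
  rw [isWeaklyRegular_cons_iff]
  exact ⟨fun x y hxy => hg (hP (by simpa only [map_smul] using congrArg g hxy)), IsWeaklyRegular.nil R _⟩

end GrothLib.PushDepth12
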